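import Mathlib
import Cfsg.Prelude.Def_JComponents
import Cfsg.Agent.Lib.Helper9.Thompson
import Cfsg.Agent.Lib.Helper6.ElemAb

/-! Basic lemmas for the `J(T)`-component row S2946: largest elementary abelian subgroups,
`Ω₁(Z(J))`, four-groups. -/

set_option autoImplicit false

namespace Cfsg.Agent.Lib.Helper6.JC

open Cfsg Cfsg.Agent.Lib.Helper9 Cfsg.Agent.Lib.Helper6

variable {G : Type*} [Group G]

/-- members of `maxEA` lie in the Thompson subgroup -/
theorem le_thompson_of_mem_maxEA {p : ℕ} {S A : Subgroup G} (hA : A ∈ maxEA p S) :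
    A ≤ thompsonSubgroupOf p S := by
  rw [thompsonSubgroupOf_eq]; exact le_sSup hA

/-- an elementary abelian subgroup of `S` at least as large as a largest one is a largest one -/
theorem maxEA_of_card_ge {p : ℕ} {S A C : Subgroup G} (hA : A ∈ maxEA p S) (hCS : C ≤ S)
    (hC : IsElementaryAbelian p C) (hcard : Nat.card A ≤ Nat.card C) : C ∈ maxEA p S :=
  ⟨hCS, hC, fun B hB hBe => (hA.2.2 B hB hBe).trans hcard⟩

/-- an involution (or 1) of `S` centralizing a largest elementary abelian subgroup lies in it -/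
theorem maxEA_absorb [Finite G] {S A : Subgroup G} (hA : A ∈ maxEA 2 S) {z : G} (hzS : z ∈ S)
    (hz2 : z * z = 1) (hcomm : ∀ a ∈ A, z * a = a * z) : z ∈ A := by
  obtain ⟨hAS, hAe, hAmax⟩ := hA
  obtain ⟨hAc, hA2⟩ := isElementaryAbelian_iff_forall.mp hAe
  set T : Set G := (A : Set G) ∪ {z} with hT
  have hCe : IsElementaryAbelian 2 (Subgroup.closure T) := by
    apply isElementaryAbelian_closure
    · intro a ha b hb
      rcases ha with ha | ha <;> rcases hb with hb | hb
      · exact hAc a ha b hb
      · rw [Set.mem_singleton_iff] at hb; subst hb; exact (hcomm a ha).symm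
      · rw [Set.mem_singleton_iff] at ha; subst ha; exact hcomm b hb
      · rw [Set.mem_singleton_iff] at ha hb; subst ha; subst hb; rfl
    · intro a ha
      rcases ha with ha | ha
      · exact hA2 a ha
      · rw [Set.mem_singleton_iff] at ha; subst ha; rw [pow_two]; exact hz2
  have hCS : Subgroup.closure T ≤ S := by
    rw [Subgroup.closure_le]
    intro a ha
    rcases ha with ha | ha
    · exact hAS ha
    · rw [Set.mem_singleton_iff] at ha; subst ha; exact hzS
  have hAC : A ≤ Subgroup.closure T := fun a ha => Subgroup.subset_closure (Or.inl ha)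
  have hcard := hAmax _ hCS hCe
  have heq : A = Subgroup.closure T := Subgroup.eq_of_le_of_card_ge hAC hcard
  rw [heq]
  exact Subgroup.subset_closure (Or.inr rfl)

/-! ### `Ω₁(Z(J))` -/

theorem omegaCenterOf_le (J : Subgroup G) :
    omegaCenterOf J ≤ J ⊓ Subgroup.centralizer (J : Set G) := by
  unfold omegaCenterOf omegaOne
  rw [Subgroup.closure_le]
  intro x hx
  exact hx.1

theorem mem_omegaCenterOf {J : Subgroup G} {z : G} (hzJ : z ∈ J)
    (hzc : z ∈ Subgroup.centralizer (J : Set G)) (hz2 : z * z = 1) : z ∈ omegaCenterOf J := by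
  unfold omegaCenterOf omegaOne
  apply Subgroup.subset_closure
  exact ⟨⟨hzJ, hzc⟩, by rw [pow_two]; exact hz2⟩

theorem mul_self_of_mem_omegaCenterOf {J : Subgroup G} {z : G} (hz : z ∈ omegaCenterOf J) :
    z * z = 1 := by
  unfold omegaCenterOf omegaOne at hz
  have key : ∀ x ∈ Subgroup.closure {x : G | x ∈ J ⊓ Subgroup.centralizer (J : Set G) ∧ x ^ 2 = 1},
      x ∈ J ⊓ Subgroup.centralizer (J : Set G) ∧ x * x = 1 := by
    intro x hx
    induction hx using Subgroup.closure_induction with
    | mem x hx => exact ⟨hx.1, by rw [← pow_two]; exact hx.2⟩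
    | one => exact ⟨Subgroup.one_mem _, by simp⟩
    | mul x y _ _ hx hy =>
      refine ⟨Subgroup.mul_mem _ hx.1 hy.1, ?_⟩
      have hc : y * x = x * y := ((Subgroup.mem_centralizer_iff.mp hy.1.2) x hx.1.1).symm
      calc x * y * (x * y) = x * (y * x) * y := by group
        _ = x * (x * y) * y := by rw [hc]
        _ = (x * x) * (y * y) := by group
        _ = 1 := by rw [hx.2, hy.2, one_mul]
    | inv x _ hx =>
      refine ⟨Subgroup.inv_mem _ hx.1, ?_⟩
      rw [← mul_inv_rev, hx.2, inv_one]
  exact (key z hz).2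

/-! ### subgroups of a group of order 4 -/

/-- a subgroup of a group of order `4` which is neither trivial nor everything has order `2` -/
theorem card_eq_two_of_lt_of_ne_bot [Finite G] {W C : Subgroup G} (hW : Nat.card W = 4) (hCW : C ≤ W)
    (hne : C ≠ ⊥) (hlt : C ≠ W) : Nat.card C = 2 := by
  have hdvd : Nat.card C ∣ Nat.card W := Subgroup.card_dvd_of_le hCW
  rw [hW] at hdvd
  have h1 : Nat.card C ≠ 1 := fun h => hne (Subgroup.card_eq_one.mp h)
  have h4 : Nat.card C ≠ 4 := by
    intro h
    apply hlt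
    exact Subgroup.eq_of_le_of_card_ge hCW (by rw [hW, h])
  have hle : Nat.card C ≤ 4 := Nat.le_of_dvd (by norm_num) hdvd
  have hpos : 0 < Nat.card C := Nat.card_pos
  interval_cases h : Nat.card C <;> simp_all

end Cfsg.Agent.Lib.Helper6.JC
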