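import Mathlib
import Cfsg.Agent.Lib.Helper6.JC.JC1
import Cfsg.Agent.Lib.Helper6.ThompsonRepl

/-! Four-groups: action of elements fixing an involution. -/

set_option autoImplicit false

namespace Cfsg.Agent.Lib.Helper6.JC

open Cfsg

variable {G : Type*} [Group G]

theorem comm_of_mul_self {W : Subgroup G} (hW2 : ∀ w ∈ W, w * w = 1) :
    ∀ x ∈ W, ∀ y ∈ W, x * y = y * x := by
  intro x hx y hy
  have h1 := hW2 (x * y) (W.mul_mem hx hy)
  have hx2 := hW2 x hx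
  have hy2 := hW2 y hy
  have hxi : x⁻¹ = x := inv_eq_of_mul_eq_one_left hx2
  have hyi : y⁻¹ = y := inv_eq_of_mul_eq_one_left hy2
  have h2 : x * y = (x * y)⁻¹ := (inv_eq_of_mul_eq_one_left h1).symm
  rw [h2, mul_inv_rev, hxi, hyi]

theorem mem_zpowers_involution {w₀ x : G} (h2 : w₀ * w₀ = 1) (hx : x ∈ Subgroup.zpowers w₀) :
    x = 1 ∨ x = w₀ := by
  obtain ⟨k, rfl⟩ := Subgroup.mem_zpowers_iff.mp hx
  have hsq : w₀ ^ (2 : ℤ) = 1 := by
    rw [zpow_two]; exact h2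
  have hk : w₀ ^ k = w₀ ^ (k % 2) := by
    conv_lhs => rw [← Int.emod_add_mul_ediv k 2]
    rw [zpow_add, zpow_mul, hsq, one_zpow, mul_one]
  rw [hk]
  rcases Int.emod_two_eq_zero_or_one k with h | h <;> rw [h]
  · left; simp
  · right; simp

variable [Finite G]

/-- in a group `W` of order four with involution `w₀`: two elements outside `{1, w₀}` differ by
an element of `{1, w₀}` -/
theorem four_coset {W : Subgroup G} (hW4 : Nat.card W = 4) (hW2 : ∀ w ∈ W, w * w = 1)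
    {w₀ : G} (hw₀ : w₀ ∈ W) (hw₀1 : w₀ ≠ 1) {w u : G} (hw : w ∈ W) (hu : u ∈ W)
    (hw1 : w ≠ 1) (hw0 : w ≠ w₀) (hu1 : u ≠ 1) (hu0 : u ≠ w₀) : u = w ∨ u = w * w₀ := by
  have h2 : w₀ * w₀ = 1 := hW2 w₀ hw₀
  have hord : orderOf w₀ = 2 := orderOf_eq_prime (by rw [pow_two]; exact h2) hw₀1
  set Z : Subgroup G := Subgroup.zpowers w₀ with hZ
  have hZW : Z ≤ W := Subgroup.zpowers_le.mpr hw₀
  have hcZ : Nat.card Z = 2 := by rw [hZ, Nat.card_zpowers, hord]
  have hrel : Z.relIndex W = 2 := by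
    have := Cfsg.Agent.Lib.Helper6.card_mul_relIndex_of_le hZW
    rw [hcZ, hW4] at this
    omega
  have hidx : (Z.subgroupOf W).index = 2 := hrel
  have hwZ : w ∉ Z := fun h => by
    rcases mem_zpowers_involution h2 h with h | h
    · exact hw1 h
    · exact hw0 h
  have huZ : u ∉ Z := fun h => by
    rcases mem_zpowers_involution h2 h with h | h
    · exact hu1 h
    · exact hu0 h
  have hwi : w⁻¹ = w := inv_eq_of_mul_eq_one_left (hW2 w hw)
  have key := Subgroup.mul_mem_iff_of_index_two hidx (a := (⟨w, hw⟩ : W)) (b := (⟨u, hu⟩ : W))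
  have hmem : (⟨w, hw⟩ : W) * ⟨u, hu⟩ ∈ Z.subgroupOf W := by
    rw [key]
    constructor
    · intro h; exact absurd (Subgroup.mem_subgroupOf.mp h) hwZ
    · intro h; exact absurd (Subgroup.mem_subgroupOf.mp h) huZ
  have hmem' : w * u ∈ Z := Subgroup.mem_subgroupOf.mp hmem
  rcases mem_zpowers_involution h2 hmem' with h | h
  · left
    have : u = w⁻¹ := eq_inv_of_mul_eq_one_right h
    rw [this, hwi]
  · right
    have : u = w⁻¹ * w₀ := by rw [← h]; group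
    rw [this, hwi]

/-- an element normalizing the four-group `W` and fixing `w₀` sends every `w ∈ W` to `w` or `w w₀` -/
theorem four_conj_cases {W : Subgroup G} (hW4 : Nat.card W = 4) (hW2 : ∀ w ∈ W, w * w = 1)
    {w₀ : G} (hw₀ : w₀ ∈ W) (hw₀1 : w₀ ≠ 1) {c : G} (hc : ∀ w ∈ W, c * w * c⁻¹ ∈ W)
    (hc0 : c * w₀ * c⁻¹ = w₀) {w : G} (hw : w ∈ W) : c * w * c⁻¹ = w ∨ c * w * c⁻¹ = w * w₀ := by
  by_cases hw1 : w = 1
  · left; subst hw1; group
  by_cases hw0 : w = w₀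
  · left; subst hw0; exact hc0
  apply four_coset hW4 hW2 hw₀ hw₀1 hw (hc w hw) hw1 hw0
  · intro h
    apply hw1
    have : w = c⁻¹ * (c * w * c⁻¹) * c := by group
    rw [this, h]; group
  · intro h
    apply hw0
    have e1 : w = c⁻¹ * (c * w * c⁻¹) * c := by group
    have e2 : w₀ = c⁻¹ * (c * w₀ * c⁻¹) * c := by group
    rw [e1, h]
    conv_rhs => rw [e2, hc0]

/-- two elements normalizing the four-group `W`, fixing `w₀ ≠ 1`, both acting nontrivially: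
`a * b` centralizes `W` -/
theorem four_mul_centralizes {W : Subgroup G} (hW4 : Nat.card W = 4) (hW2 : ∀ w ∈ W, w * w = 1)
    {w₀ : G} (hw₀ : w₀ ∈ W) (hw₀1 : w₀ ≠ 1) {a b : G}
    (ha : ∀ w ∈ W, a * w * a⁻¹ ∈ W) (hb : ∀ w ∈ W, b * w * b⁻¹ ∈ W)
    (ha0 : a * w₀ * a⁻¹ = w₀) (hb0 : b * w₀ * b⁻¹ = w₀)
    (hna : ∃ w ∈ W, a * w * a⁻¹ ≠ w) (hnb : ∃ w ∈ W, b * w * b⁻¹ ≠ w) :
    ∀ w ∈ W, (a * b) * w * (a * b)⁻¹ = w := by
  have hcomm := comm_of_mul_self hW2
  have h02 : w₀ * w₀ = 1 := hW2 w₀ hw₀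
  -- a nontrivial such element moves every element outside {1, w₀} to its product with w₀
  have moves : ∀ c : G, (∀ w ∈ W, c * w * c⁻¹ ∈ W) → c * w₀ * c⁻¹ = w₀ →
      (∃ w ∈ W, c * w * c⁻¹ ≠ w) → ∀ w ∈ W, w ≠ 1 → w ≠ w₀ → c * w * c⁻¹ = w * w₀ := by
    intro c hc hc0 ⟨w', hw', hne⟩ w hw hw1 hw0
    have hw'1 : w' ≠ 1 := by
      intro h; apply hne; subst h; group
    have hw'0 : w' ≠ w₀ := by
      intro h; apply hne; subst h; exact hc0
    have hcw' : c * w' * c⁻¹ = w' * w₀ := by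
      rcases four_conj_cases hW4 hW2 hw₀ hw₀1 hc hc0 hw' with h | h
      · exact absurd h hne
      · exact h
    rcases four_coset hW4 hW2 hw₀ hw₀1 hw' hw hw'1 hw'0 hw1 hw0 with h | h
    · rw [h]; exact hcw'
    · rw [h]
      have : c * (w' * w₀) * c⁻¹ = (c * w' * c⁻¹) * (c * w₀ * c⁻¹) := by group
      rw [this, hcw', hc0]
  intro w hw
  have hexp : (a * b) * w * (a * b)⁻¹ = a * (b * w * b⁻¹) * a⁻¹ := by group
  rw [hexp]
  by_cases hw1 : w = 1
  · subst hw1; group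
  by_cases hw0 : w = w₀
  · subst hw0; rw [hb0, ha0]
  rw [moves b hb hb0 hnb w hw hw1 hw0]
  have hww : w * w₀ ∈ W := W.mul_mem hw hw₀
  have hww1 : w * w₀ ≠ 1 := by
    intro h
    apply hw0
    have : w = w₀⁻¹ := eq_inv_of_mul_eq_one_left h
    rw [this]; exact inv_eq_of_mul_eq_one_left h02
  have hww0 : w * w₀ ≠ w₀ := by
    intro h
    apply hw1
    have : w * w₀ = 1 * w₀ := by rw [one_mul]; exact h
    exact mul_right_cancel this
  rw [moves a ha ha0 hna (w * w₀) hww hww1 hww0, mul_assoc, h02, mul_one]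

end Cfsg.Agent.Lib.Helper6.JC
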