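import Mathlib
import Cfsg.Agent.Lib.Helper6.JC.JC2
import Cfsg.Agent.Lib.Helper6.PCore
import Cfsg.Agent.Lib.Helper6.Conj2
import Cfsg.Agent.S2859

/-! Structure of a subgroup `K` with `K = O^2(K)`, `|K : O_2(K)| = 3` and `W = [Ω₁(Z(O_2(K))), K]` a
four-group (the internal part of the definition of a `J(T)`-component). -/

set_option autoImplicit false

namespace Cfsg.Agent.Lib.Helper6.JC

open Cfsg Cfsg.Agent.Lib.Helper6
open scoped commutatorElement

variable {G : Type*} [Group G]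

/-- the `K`-internal hypotheses of a `J(T)`-component -/
structure KData (K : Subgroup G) : Prop where
  gen : Subgroup.closure {g : G | g ∈ K ∧ Odd (orderOf g)} = K
  idx : (pCoreOf 2 K).relIndex K = 3
  w4 : Nat.card (wOf K) = 4
  w2 : ∀ w ∈ wOf K, w * w = 1

/-- conjugation by an element normalizing `H` preserves `Ω₁(Z(H))` -/
theorem conj_mem_omegaCenterOf {H : Subgroup G} {x : G} (hx : x ∈ Subgroup.normalizer (H : Set G))
    {v : G} (hv : v ∈ omegaCenterOf H) : x * v * x⁻¹ ∈ omegaCenterOf H := by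
  unfold omegaCenterOf omegaOne at hv ⊢
  induction hv using Subgroup.closure_induction with
  | mem y hy =>
    apply Subgroup.subset_closure
    obtain ⟨hyHc, hy2⟩ := hy
    have hyH : y ∈ H := (Subgroup.mem_inf.mp hyHc).1
    have hyc : y ∈ Subgroup.centralizer (H : Set G) := (Subgroup.mem_inf.mp hyHc).2
    refine ⟨Subgroup.mem_inf.mpr ⟨(Subgroup.mem_normalizer_iff.mp hx y).mp hyH, ?_⟩, ?_⟩
    · rw [Subgroup.mem_centralizer_iff]
      intro h hh
      have hh' : x⁻¹ * h * x ∈ H := by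
        have := (Subgroup.mem_normalizer_iff.mp (Subgroup.inv_mem _ hx) h).mp hh
        simpa using this
      have hc := (Subgroup.mem_centralizer_iff.mp hyc) _ hh'
      calc h * (x * y * x⁻¹) = x * ((x⁻¹ * h * x) * y) * x⁻¹ := by group
        _ = x * (y * (x⁻¹ * h * x)) * x⁻¹ := by rw [hc]
        _ = x * y * x⁻¹ * h := by group
    · calc (x * y * x⁻¹) ^ 2 = x * y ^ 2 * x⁻¹ := by rw [pow_two, pow_two]; group
        _ = 1 := by rw [hy2]; group
  | one => simp
  | mul a b _ _ ha hb =>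
    have : x * (a * b) * x⁻¹ = (x * a * x⁻¹) * (x * b * x⁻¹) := by group
    rw [this]; exact Subgroup.mul_mem _ ha hb
  | inv a _ ha =>
    have : x * a⁻¹ * x⁻¹ = (x * a * x⁻¹)⁻¹ := by group
    rw [this]; exact Subgroup.inv_mem _ ha

/-- conjugation by an element normalizing `A` and `B` preserves `[A, B]` -/
theorem conj_mem_commutator {A B : Subgroup G} {x : G}
    (hA : ∀ a ∈ A, x * a * x⁻¹ ∈ A) (hB : ∀ b ∈ B, x * b * x⁻¹ ∈ B)
    {c : G} (hc : c ∈ ⁅A, B⁆) : x * c * x⁻¹ ∈ ⁅A, B⁆ := by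
  have hle : ⁅A, B⁆ ≤ (⁅A, B⁆ : Subgroup G).comap (MulAut.conj x).toMonoidHom := by
    rw [Subgroup.commutator_le]
    intro a ha b hb
    rw [Subgroup.mem_comap]
    show (MulAut.conj x) ⁅a, b⁆ ∈ ⁅A, B⁆
    rw [MulAut.conj_apply]
    have : x * ⁅a, b⁆ * x⁻¹ = ⁅x * a * x⁻¹, x * b * x⁻¹⁆ := by
      simp only [commutatorElement_def]; group
    rw [this]
    exact Subgroup.commutator_mem_commutator (hA a ha) (hB b hb)
  have := hle hc
  rw [Subgroup.mem_comap] at this
  simpa [MulAut.conj_apply] using this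

theorem conj_mem_of_mem_normalizer {H : Subgroup G} {x : G}
    (hx : x ∈ Subgroup.normalizer (H : Set G)) {h : G} (hh : h ∈ H) : x * h * x⁻¹ ∈ H :=
  (Subgroup.mem_normalizer_iff.mp hx h).mp hh

section

variable [Finite G] {K : Subgroup G}

/-- elements normalizing `K` normalize `W_K` -/
theorem conj_mem_wOf {x : G} (hx : x ∈ Subgroup.normalizer (K : Set G)) {w : G} (hw : w ∈ wOf K) :
    x * w * x⁻¹ ∈ wOf K := by
  unfold wOf at hw ⊢
  have hxQ : x ∈ Subgroup.normalizer ((pCoreOf 2 K : Subgroup G) : Set G) :=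
    Cfsg.Agent.S2859.normalizer_le_normalizer_pCoreOf 2 K hx
  exact conj_mem_commutator (fun a ha => conj_mem_omegaCenterOf hxQ ha)
    (fun b hb => conj_mem_of_mem_normalizer hx hb) hw

theorem omegaCenterOf_pCoreOf_le (K : Subgroup G) :
    omegaCenterOf (pCoreOf 2 K) ≤ pCoreOf 2 K := (omegaCenterOf_le _).trans inf_le_left

/-- `O_2(K)` centralizes `Ω₁(Z(O_2(K)))` -/
theorem pCoreOf_comm_omega {q v : G} (hq : q ∈ pCoreOf 2 K) (hv : v ∈ omegaCenterOf (pCoreOf 2 K)) :
    q * v = v * q :=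
  (Subgroup.mem_centralizer_iff.mp ((omegaCenterOf_le _ hv).2) q hq)

/-- `W_K ≤ Ω₁(Z(O_2(K)))` -/
theorem wOf_le_omega (K : Subgroup G) : wOf K ≤ omegaCenterOf (pCoreOf 2 K) := by
  unfold wOf
  rw [Subgroup.commutator_le]
  intro v hv k hk
  have hkQ : k ∈ Subgroup.normalizer ((pCoreOf 2 K : Subgroup G) : Set G) :=
    Cfsg.Agent.S2859.normalizer_le_normalizer_pCoreOf 2 K (Subgroup.le_normalizer hk)
  have h1 : k * v⁻¹ * k⁻¹ ∈ omegaCenterOf (pCoreOf 2 K) :=
    conj_mem_omegaCenterOf hkQ (Subgroup.inv_mem _ hv)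
  have : ⁅v, k⁆ = v * (k * v⁻¹ * k⁻¹) := by simp only [commutatorElement_def]; group
  rw [this]
  exact Subgroup.mul_mem _ hv h1

theorem wOf_le_pCoreOf (K : Subgroup G) : wOf K ≤ pCoreOf 2 K :=
  (wOf_le_omega K).trans (omegaCenterOf_pCoreOf_le K)

/-- `O_2(K)` centralizes `W_K` -/
theorem pCoreOf_comm_wOf {q w : G} (hq : q ∈ pCoreOf 2 K) (hw : w ∈ wOf K) : q * w = w * q :=
  pCoreOf_comm_omega hq (wOf_le_omega K hw)

variable (hK : KData K)
include hK

/-- intermediate subgroups between `O_2(K)` and `K` -/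
theorem KData.between {H : Subgroup G} (h1 : pCoreOf 2 K ≤ H) (h2 : H ≤ K) :
    H = pCoreOf 2 K ∨ H = K := by
  have hmul := Subgroup.relIndex_mul_relIndex (pCoreOf 2 K) H K h1 h2
  rw [hK.idx] at hmul
  have h3 : Nat.Prime 3 := by norm_num
  have hd : (pCoreOf 2 K).relIndex H ∣ 3 := Dvd.intro _ hmul
  rcases (Nat.dvd_prime h3).mp hd with h | h
  · left
    exact le_antisymm (Subgroup.relIndex_eq_one.mp h) h1
  · right
    rw [h] at hmul
    have : H.relIndex K = 1 := by omega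
    exact le_antisymm h2 (Subgroup.relIndex_eq_one.mp this)

/-- an element of odd order of `K` outside `O_2(K)` -/
theorem KData.exists_odd : ∃ g ∈ K, Odd (orderOf g) ∧ g ∉ pCoreOf 2 K := by
  by_contra hcon
  push Not at hcon
  have hle : K ≤ pCoreOf 2 K := by
    conv_lhs => rw [← hK.gen]
    rw [Subgroup.closure_le]
    intro g hg
    exact hcon g hg.1 hg.2
  have := Subgroup.relIndex_eq_one.mpr hle
  rw [hK.idx] at this
  omega

theorem KData.sup_zpowers {g : G} (hg : g ∈ K) (hgQ : g ∉ pCoreOf 2 K) :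
    pCoreOf 2 K ⊔ Subgroup.zpowers g = K := by
  rcases hK.between (H := pCoreOf 2 K ⊔ Subgroup.zpowers g) le_sup_left
    (sup_le (pCoreOf_le K) (Subgroup.zpowers_le.mpr hg)) with h | h
  · exfalso
    apply hgQ
    rw [← h]
    exact (le_sup_right : Subgroup.zpowers g ≤ _) (Subgroup.mem_zpowers g)
  · exact h

end

end Cfsg.Agent.Lib.Helper6.JC
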