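import Mathlib
import Cfsg.Agent.Lib.Helper6.JC.JC3

/-! Coprime action of an odd-order element of `K` on `W_K`. -/

set_option autoImplicit false

namespace Cfsg.Agent.Lib.Helper6.JC

open Cfsg Cfsg.Agent.Lib.Helper6
open scoped commutatorElement

variable {G : Type*} [Group G]

theorem mem_centralizer_of_conj {S : Subgroup G} {g : G} (h : ∀ s ∈ S, g * s * g⁻¹ = s) :
    g ∈ Subgroup.centralizer (S : Set G) := by
  rw [Subgroup.mem_centralizer_iff]
  intro s hs
  have := h s hs
  calc s * g = (g * s * g⁻¹) * g := by rw [this]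
    _ = g * s := by group

theorem conj_of_mem_centralizer {S : Subgroup G} {g : G} (h : g ∈ Subgroup.centralizer (S : Set G))
    {s : G} (hs : s ∈ S) : g * s * g⁻¹ = s := by
  have := (Subgroup.mem_centralizer_iff.mp h) s hs
  calc g * s * g⁻¹ = (s * g) * g⁻¹ := by rw [this]
    _ = s := by group

/-- an odd power trick: `g = (g^2)^k` for `g` of odd order -/
theorem exists_pow_sq_of_odd {g : G} (hodd : Odd (orderOf g)) : ∃ k : ℕ, (g ^ 2) ^ k = g := by
  obtain ⟨m, hm⟩ := hodd
  refine ⟨m + 1, ?_⟩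
  rw [← pow_mul]
  have : 2 * (m + 1) = orderOf g + 1 := by omega
  rw [this, pow_succ, pow_orderOf_eq_one, one_mul]

theorem pow_odd_of_mul_self {c : G} (hc : c * c = 1) {n : ℕ} (hn : Odd n) : c ^ n = c := by
  obtain ⟨m, rfl⟩ := hn
  rw [pow_succ, pow_mul, pow_two, hc, one_pow, one_mul]

/-- iterated conjugation when the "commutator" is fixed -/
theorem pow_conj_eq {g v c : G} (h1 : g * v * g⁻¹ = c * v) (h2 : g * c * g⁻¹ = c) :
    ∀ n : ℕ, g ^ n * v * (g ^ n)⁻¹ = c ^ n * v := by
  intro n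
  induction n with
  | zero => simp
  | succ n ih =>
    have e : g ^ (n + 1) * v * (g ^ (n + 1))⁻¹ = g * (g ^ n * v * (g ^ n)⁻¹) * g⁻¹ := by
      rw [pow_succ']; group
    rw [e, ih]
    have e2 : g * (c ^ n * v) * g⁻¹ = (g * c * g⁻¹) ^ n * (g * v * g⁻¹) := by
      rw [conj_pow]; group
    rw [e2, h1, h2, pow_succ]
    group

section

variable [Finite G] {K : Subgroup G} (hK : KData K)
include hK

theorem KData.wOf_ne_bot : wOf K ≠ ⊥ := by
  intro h
  have := hK.w4
  rw [h] at this
  simp at this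

/-- an odd-order element of `K` outside `O_2(K)` fixes no nontrivial element of `W_K` -/
theorem KData.fixes_none {g : G} (hg : g ∈ K) (hodd : Odd (orderOf g)) (hgQ : g ∉ pCoreOf 2 K)
    {w : G} (hw : w ∈ wOf K) (hfix : g * w * g⁻¹ = w) : w = 1 := by
  by_contra hw1
  have hgN : g ∈ Subgroup.normalizer (K : Set G) := Subgroup.le_normalizer hg
  have hnorm : ∀ w' ∈ wOf K, g * w' * g⁻¹ ∈ wOf K := fun w' hw' => conj_mem_wOf hgN hw'
  -- g² centralizes W
  have hsq : g ^ 2 ∈ Subgroup.centralizer ((wOf K : Subgroup G) : Set G) := by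
    apply mem_centralizer_of_conj
    intro w' hw'
    have e : g ^ 2 * w' * (g ^ 2)⁻¹ = g * (g * w' * g⁻¹) * g⁻¹ := by rw [pow_two]; group
    rw [e]
    rcases four_conj_cases hK.w4 hK.w2 hw hw1 hnorm hfix hw' with h | h
    · rw [h, h]
    · rw [h]
      have e2 : g * (w' * w) * g⁻¹ = (g * w' * g⁻¹) * (g * w * g⁻¹) := by group
      rw [e2, h, hfix, mul_assoc, hK.w2 w hw, mul_one]
  have hgW : g ∈ Subgroup.centralizer ((wOf K : Subgroup G) : Set G) := by
    obtain ⟨k, hk⟩ := exists_pow_sq_of_odd hodd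
    rw [← hk]
    exact Subgroup.pow_mem _ hsq k
  -- g centralizes V
  have hgV : g ∈ Subgroup.centralizer ((omegaCenterOf (pCoreOf 2 K) : Subgroup G) : Set G) := by
    apply mem_centralizer_of_conj
    intro v hv
    set c := g * v * g⁻¹ * v⁻¹ with hc
    have hcW : c ∈ wOf K := by
      unfold wOf
      have : c = ⁅v, g⁆⁻¹ := by rw [hc]; simp only [commutatorElement_def]; group
      rw [this]
      exact Subgroup.inv_mem _ (Subgroup.commutator_mem_commutator hv hg)
    have h1 : g * v * g⁻¹ = c * v := by rw [hc]; group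
    have h2 : g * c * g⁻¹ = c := conj_of_mem_centralizer hgW hcW
    have h3 := pow_conj_eq h1 h2 (orderOf g)
    rw [pow_orderOf_eq_one, pow_odd_of_mul_self (hK.w2 c hcW) hodd] at h3
    have hc1 : c = 1 := by
      have : v = c * v := by simpa using h3
      calc c = (c * v) * v⁻¹ := by group
        _ = v * v⁻¹ := by rw [← this]
        _ = 1 := by group
    rw [h1, hc1, one_mul]
  -- K centralizes V
  have hKV : K ≤ Subgroup.centralizer ((omegaCenterOf (pCoreOf 2 K) : Subgroup G) : Set G) := by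
    have hsup := hK.sup_zpowers hg hgQ
    have hle : pCoreOf 2 K ⊔ Subgroup.zpowers g ≤
        Subgroup.centralizer ((omegaCenterOf (pCoreOf 2 K) : Subgroup G) : Set G) := by
      apply sup_le
      · intro q hq
        rw [Subgroup.mem_centralizer_iff]
        intro v hv
        exact (pCoreOf_comm_omega hq hv).symm
      · exact Subgroup.zpowers_le.mpr hgV
    rwa [hsup] at hle
  have hW : wOf K = ⊥ := by
    unfold wOf
    rw [Subgroup.commutator_eq_bot_iff_le_centralizer]
    intro v hv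
    rw [Subgroup.mem_centralizer_iff]
    intro k hk
    exact ((Subgroup.mem_centralizer_iff.mp (hKV hk)) v hv).symm
  exact hK.wOf_ne_bot hW

/-- `C_K(W_K) = O_2(K)` -/
theorem KData.mem_pCoreOf_of_centralizes {k : G} (hk : k ∈ K)
    (hc : k ∈ Subgroup.centralizer ((wOf K : Subgroup G) : Set G)) : k ∈ pCoreOf 2 K := by
  obtain ⟨g, hg, hodd, hgQ⟩ := hK.exists_odd
  set H : Subgroup G := K ⊓ Subgroup.centralizer ((wOf K : Subgroup G) : Set G) with hH
  have h1 : pCoreOf 2 K ≤ H := by
    intro q hq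
    refine Subgroup.mem_inf.mpr ⟨pCoreOf_le K hq, ?_⟩
    rw [Subgroup.mem_centralizer_iff]
    intro w hw
    exact (pCoreOf_comm_wOf hq hw).symm
  rcases hK.between h1 inf_le_left with h | h
  · rw [← h]; exact ⟨hk, hc⟩
  · exfalso
    have hgH : g ∈ H := by rw [h]; exact hg
    obtain ⟨w, hw1⟩ := (Subgroup.ne_bot_iff_exists_ne_one).mp hK.wOf_ne_bot
    have hw' : (w : G) ∈ wOf K := w.2
    apply hw1
    apply Subtype.ext
    exact hK.fixes_none hg hodd hgQ hw' (conj_of_mem_centralizer (Subgroup.mem_inf.mp hgH).2 hw')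

end

end Cfsg.Agent.Lib.Helper6.JC
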