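import Mathlib
import Cfsg.Agent.Lib.Helper6.JC.JC4
import Cfsg.Agent.Lib.Helper6.PGroupFix
import Cfsg.Agent.Lib.Helper6.TwoMaxEA
import Cfsg.Agent.S2941

/-! The set-up for S2946: a Sylow 2-subgroup `S` of `X = K ⊔ J` containing `J`, the subgroup
`Q = X ⊓ C(W_K)`. -/

set_option autoImplicit false

namespace Cfsg.Agent.Lib.Helper6.JC

open Cfsg Cfsg.Agent.Lib.Helper9 Cfsg.Agent.Lib.Helper6
open scoped commutatorElement

variable {G : Type*} [Group G]

/-- existence of a Sylow 2-subgroup of `X` containing a given 2-subgroup of `X`; it contains every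
2-subgroup of `X` normalized by `X` -/
theorem exists_sylowTwoIn [Finite G] {X J : Subgroup G} (hJX : J ≤ X) (hJ2 : IsPGroup 2 J) :
    ∃ S : Subgroup G, IsSylowTwoIn S X ∧ J ≤ S ∧
      ∀ N : Subgroup G, N ≤ X → IsPGroup 2 N → (∀ x ∈ X, ∀ n ∈ N, x * n * x⁻¹ ∈ N) → N ≤ S := by
  haveI : Fact (Nat.Prime 2) := ⟨Nat.prime_two⟩
  have hJ2' : IsPGroup 2 (J.subgroupOf X) := hJ2.comap_subtype
  obtain ⟨P, hP⟩ := hJ2'.exists_le_sylow
  refine ⟨(P : Subgroup X).map X.subtype, ⟨Subgroup.map_subtype_le _, P.isPGroup'.map _, ?_⟩, ?_, ?_⟩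
  · have h1 : ((P : Subgroup X).map X.subtype).relIndex X = (P : Subgroup X).index := by
      unfold Subgroup.relIndex Subgroup.subgroupOf
      rw [Subgroup.comap_map_eq_self_of_injective X.subtype_injective]
    rw [h1]
    have := P.not_dvd_index
    rw [← Nat.not_even_iff_odd, even_iff_two_dvd]
    exact this
  · intro j hj
    exact ⟨⟨j, hJX hj⟩, hP (show (⟨j, hJX hj⟩ : X) ∈ J.subgroupOf X from
      Subgroup.mem_subgroupOf.mpr hj), rfl⟩
  · intro N hNX hN2 hnorm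
    have : (N.subgroupOf X).Normal := ⟨fun n hn x => by
      rw [Subgroup.mem_subgroupOf] at hn ⊢
      simpa using hnorm x x.2 n hn⟩
    have hN2' : IsPGroup 2 (N.subgroupOf X) := hN2.comap_subtype
    have hle := IsPGroup.le_sylow_of_normal hN2' P
    intro n hn
    exact ⟨⟨n, hNX hn⟩, hle (Subgroup.mem_subgroupOf.mpr hn), rfl⟩

/-- the working context: `K` with the internal `J`-component data, `J` a 2-group with `⁅K, J⁆ = K`, and `S`
a Sylow 2-subgroup of `K ⊔ J` containing `J` whose Thompson subgroup is `J` -/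
structure JCtx (K J S : Subgroup G) : Prop where
  hK : KData K
  hJ2 : IsPGroup 2 J
  hKJ : ⁅K, J⁆ = K
  hSX : S ≤ K ⊔ J
  hS2 : IsPGroup 2 S
  hJS : J ≤ S
  hth : thompsonSubgroupOf 2 S = J
  habs : ∀ N : Subgroup G, N ≤ K ⊔ J → IsPGroup 2 N →
    (∀ x ∈ K ⊔ J, ∀ n ∈ N, x * n * x⁻¹ ∈ N) → N ≤ S

/-- `Q = X ⊓ C(W_K)` where `X = K ⊔ J` -/
def qOf (K J : Subgroup G) : Subgroup G :=
  (K ⊔ J) ⊓ Subgroup.centralizer ((wOf K : Subgroup G) : Set G)

section

variable [Finite G] {K J S : Subgroup G} (h : JCtx K J S)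
include h

theorem JCtx.J_le_normalizer : J ≤ Subgroup.normalizer (K : Set G) := by
  have := Cfsg.Agent.S2941.commutator_normalized_right K J
  rwa [h.hKJ] at this

theorem JCtx.X_le_normalizer : K ⊔ J ≤ Subgroup.normalizer (K : Set G) :=
  sup_le Subgroup.le_normalizer h.J_le_normalizer

theorem JCtx.conj_wOf {x : G} (hx : x ∈ K ⊔ J) {w : G} (hw : w ∈ wOf K) : x * w * x⁻¹ ∈ wOf K :=
  conj_mem_wOf (h.X_le_normalizer hx) hw

theorem JCtx.conj_centralizer {x : G} (hx : x ∈ K ⊔ J) {q : G}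
    (hq : q ∈ Subgroup.centralizer ((wOf K : Subgroup G) : Set G)) :
    x * q * x⁻¹ ∈ Subgroup.centralizer ((wOf K : Subgroup G) : Set G) := by
  rw [Subgroup.mem_centralizer_iff]
  intro w hw
  have hw' : x⁻¹ * w * x ∈ wOf K := by
    have := h.conj_wOf (Subgroup.inv_mem _ hx) hw
    simpa using this
  have hc := (Subgroup.mem_centralizer_iff.mp hq) _ hw'
  calc w * (x * q * x⁻¹) = x * ((x⁻¹ * w * x) * q) * x⁻¹ := by group
    _ = x * (q * (x⁻¹ * w * x)) * x⁻¹ := by rw [hc]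
    _ = x * q * x⁻¹ * w := by group

theorem JCtx.conj_qOf {x : G} (hx : x ∈ K ⊔ J) {q : G} (hq : q ∈ qOf K J) :
    x * q * x⁻¹ ∈ qOf K J := by
  obtain ⟨hqX, hqc⟩ := Subgroup.mem_inf.mp hq
  exact Subgroup.mem_inf.mpr
    ⟨Subgroup.mul_mem _ (Subgroup.mul_mem _ hx hqX) (Subgroup.inv_mem _ hx), h.conj_centralizer hx hqc⟩

omit h in
theorem pCoreOf_le_qOf (K J : Subgroup G) : pCoreOf 2 K ≤ qOf K J := by
  intro q hq
  refine Subgroup.mem_inf.mpr ⟨(le_sup_left : K ≤ K ⊔ J) (pCoreOf_le K hq), ?_⟩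
  rw [Subgroup.mem_centralizer_iff]
  intro w hw
  exact (pCoreOf_comm_wOf hq hw).symm

omit h in
theorem wOf_le_qOf (K J : Subgroup G) : wOf K ≤ qOf K J :=
  (wOf_le_pCoreOf K).trans (pCoreOf_le_qOf K J)

theorem JCtx.mem_pCoreOf_of_mem_qOf {q : G} (hq : q ∈ qOf K J) (hqK : q ∈ K) : q ∈ pCoreOf 2 K :=
  h.hK.mem_pCoreOf_of_centralizes hqK (Subgroup.mem_inf.mp hq).2

theorem JCtx.qOf_pow_two {q : G} (hq : q ∈ qOf K J) : ∃ k : ℕ, q ^ 2 ^ k = 1 := by
  have hn : orderOf q ≠ 0 := (orderOf_pos q).ne'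
  obtain ⟨k, m, hm, hkm⟩ := Nat.exists_eq_two_pow_mul_odd hn
  refine ⟨k, ?_⟩
  set r := q ^ 2 ^ k with hr
  have hrm : r ^ m = 1 := by
    rw [hr, ← pow_mul, ← hkm, pow_orderOf_eq_one]
  have hdvd : orderOf r ∣ m := orderOf_dvd_of_pow_eq_one hrm
  have hodd : Odd (orderOf r) := Odd.of_dvd_nat hm hdvd
  have hrQ : r ∈ qOf K J := Subgroup.pow_mem _ hq _
  have hrX : r ∈ J ⊔ K := by
    rw [sup_comm]; exact (Subgroup.mem_inf.mp hrQ).1
  have hrK : r ∈ K := Cfsg.Agent.S2941.mem_of_odd_order h.hJ2 h.J_le_normalizer hrX hodd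
  have hrQk : r ∈ pCoreOf 2 K := h.mem_pCoreOf_of_mem_qOf hrQ hrK
  obtain ⟨b, hb⟩ := pCoreOf_isPGroup 2 K ⟨r, hrQk⟩
  have hb' : r ^ 2 ^ b = 1 := by
    have := congrArg Subtype.val hb
    simpa using this
  have hdvd2 : orderOf r ∣ 2 ^ b := orderOf_dvd_of_pow_eq_one hb'
  have hcop : Nat.Coprime (orderOf r) (2 ^ b) :=
    Nat.Coprime.pow_right _ (Nat.coprime_two_right.mpr hodd)
  have h1 : orderOf r = 1 := Nat.Coprime.eq_one_of_dvd hcop hdvd2
  exact orderOf_eq_one_iff.mp h1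

theorem JCtx.qOf_isPGroup : IsPGroup 2 (qOf K J) := by
  intro q
  obtain ⟨k, hk⟩ := h.qOf_pow_two q.2
  refine ⟨k, ?_⟩
  apply Subtype.ext
  simpa using hk

theorem JCtx.qOf_le_S : qOf K J ≤ S :=
  h.habs _ inf_le_left h.qOf_isPGroup (fun _ hx _ hn => h.conj_qOf hx hn)

theorem JCtx.wOf_le_S : wOf K ≤ S := (wOf_le_qOf K J).trans h.qOf_le_S

theorem JCtx.J_le_X : J ≤ K ⊔ J := le_sup_right

/-- `J` does not centralize `W_K` -/
theorem JCtx.not_centralizes : ¬ J ≤ Subgroup.centralizer ((wOf K : Subgroup G) : Set G) := by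
  intro hJc
  have hKc : K ≤ Subgroup.centralizer ((wOf K : Subgroup G) : Set G) := by
    conv_lhs => rw [← h.hKJ]
    rw [Subgroup.commutator_le]
    intro k hk j hj
    have : ⁅k, j⁆ = (k * j * k⁻¹) * j⁻¹ := by simp only [commutatorElement_def]
    rw [this]
    exact Subgroup.mul_mem _ (h.conj_centralizer ((le_sup_left : K ≤ K ⊔ J) hk) (hJc hj))
      (Subgroup.inv_mem _ (hJc hj))
  have hle : K ≤ pCoreOf 2 K := fun k hk => h.hK.mem_pCoreOf_of_centralizes hk (hKc hk)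
  have := Subgroup.relIndex_eq_one.mpr hle
  rw [h.hK.idx] at this
  omega

theorem JCtx.thompson_eq : J = sSup (maxEA 2 S) := by
  rw [← h.hth, thompsonSubgroupOf_eq]

theorem JCtx.le_J_of_maxEA {A : Subgroup G} (hA : A ∈ maxEA 2 S) : A ≤ J := by
  rw [h.thompson_eq]; exact le_sSup hA

theorem JCtx.exists_maxEA_not_le :
    ∃ A ∈ maxEA 2 S, ¬ A ≤ Subgroup.centralizer ((wOf K : Subgroup G) : Set G) := by
  by_contra hcon
  push Not at hcon
  apply h.not_centralizes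
  rw [h.thompson_eq]
  exact sSup_le hcon

theorem JCtx.wOf_isPGroup : IsPGroup 2 (wOf K) := by
  haveI : Fact (Nat.Prime 2) := ⟨Nat.prime_two⟩
  apply IsPGroup.of_card (n := 2)
  rw [h.hK.w4]
  norm_num

/-- a nontrivial element of `W_K` centralized by `J` -/
theorem JCtx.exists_w0 : ∃ w₀ ∈ wOf K, w₀ ≠ 1 ∧ ∀ j ∈ J, j * w₀ * j⁻¹ = w₀ := by
  haveI : Fact (Nat.Prime 2) := ⟨Nat.prime_two⟩
  have hJN : J ≤ Subgroup.normalizer ((wOf K : Subgroup G) : Set G) := by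
    intro j hj
    apply mem_normalizer_of_forall_conj_mem
    intro w hw
    exact h.conj_wOf (h.J_le_X hj) hw
  obtain ⟨u, hu, hu1, huc⟩ := exists_ne_one_mem_centralizer_of_pgroups 2 (wOf K) J h.wOf_isPGroup h.hJ2
    hJN h.hK.wOf_ne_bot
  refine ⟨u, hu, hu1, fun j hj => ?_⟩
  have := (Subgroup.mem_centralizer_iff.mp huc) j hj
  calc j * u * j⁻¹ = (u * j) * j⁻¹ := by rw [this]
    _ = u := by group

end

end Cfsg.Agent.Lib.Helper6.JC
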