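import Mathlib
import Cfsg.Agent.Lib.Helper6.JC.JC5

/-! Largest elementary abelian subgroups of `S` and the four-group `W_K`: `W_K ≤ J`, `[Ω₁(Z(J)), X] ≤ W_K`. -/

set_option autoImplicit false

namespace Cfsg.Agent.Lib.Helper6.JC

open Cfsg Cfsg.Agent.Lib.Helper9 Cfsg.Agent.Lib.Helper6
open scoped commutatorElement Pointwise

variable {G : Type*} [Group G]

/-- `W ⊔ D` is a largest elementary abelian subgroup as soon as it is big enough -/
theorem maxEA_sup [Finite G] {S A W D : Subgroup G} (hA : A ∈ maxEA 2 S)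
    (hcard : Nat.card A ≤ 2 * Nat.card D) (hDS : D ≤ S) (hDe : IsElementaryAbelian 2 D)
    (hWS : W ≤ S) (hW2 : ∀ w ∈ W, w * w = 1)
    (hDW : D ≤ Subgroup.centralizer ((W : Subgroup G) : Set G)) (hex : ∃ w ∈ W, w ∉ D) :
    W ⊔ D ∈ maxEA 2 S := by
  obtain ⟨hDc, hD2⟩ := isElementaryAbelian_iff_forall.mp hDe
  have hWc := comm_of_mul_self hW2
  have hsup : W ⊔ D = Subgroup.closure ((W : Set G) ∪ (D : Set G)) := by
    rw [Subgroup.closure_union, Subgroup.closure_eq, Subgroup.closure_eq]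
  have hCe : IsElementaryAbelian 2 (W ⊔ D) := by
    rw [hsup]
    apply isElementaryAbelian_closure
    · intro a ha b hb
      rcases ha with ha | ha <;> rcases hb with hb | hb
      · exact hWc a ha b hb
      · exact (Subgroup.mem_centralizer_iff.mp (hDW hb)) a ha
      · exact ((Subgroup.mem_centralizer_iff.mp (hDW ha)) b hb).symm
      · exact hDc a ha b hb
    · intro a ha
      rcases ha with ha | ha
      · rw [pow_two]; exact hW2 a ha
      · exact hD2 a ha
  have hCS : W ⊔ D ≤ S := sup_le hWS hDS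
  have hDC : D ≤ W ⊔ D := le_sup_right
  have hmul := card_mul_relIndex_of_le hDC
  have hne1 : D.relIndex (W ⊔ D) ≠ 1 := by
    intro h1
    have hle : W ⊔ D ≤ D := Subgroup.relIndex_eq_one.mp h1
    obtain ⟨w, hw, hwD⟩ := hex
    exact hwD (hle ((le_sup_left : W ≤ W ⊔ D) hw))
  have hne0 : D.relIndex (W ⊔ D) ≠ 0 := by
    intro h0
    rw [h0, mul_zero] at hmul
    exact (Nat.card_pos (α := (W ⊔ D : Subgroup G))).ne hmul
  have hge : 2 ≤ D.relIndex (W ⊔ D) := by omega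
  apply maxEA_of_card_ge hA hCS hCe
  calc Nat.card A ≤ 2 * Nat.card D := hcard
    _ = Nat.card D * 2 := by ring
    _ ≤ Nat.card D * D.relIndex (W ⊔ D) := Nat.mul_le_mul_left _ hge
    _ = Nat.card (W ⊔ D : Subgroup G) := hmul

section

variable [Finite G] {K J S : Subgroup G} (h : JCtx K J S)
include h

theorem JCtx.S_le_X : S ≤ K ⊔ J := h.hSX

omit h in
/-- elements not centralizing `W` move some element -/
theorem exists_moved {a : G}
    (ha : a ∉ Subgroup.centralizer ((wOf K : Subgroup G) : Set G)) :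
    ∃ w ∈ wOf K, a * w * a⁻¹ ≠ w := by
  by_contra hcon
  push Not at hcon
  exact ha (mem_centralizer_of_conj hcon)

/-- `A ⊓ C(W)` has index two in a largest elementary abelian subgroup `A` not centralizing `W` -/
theorem JCtx.card_inf_centralizer {A : Subgroup G} (hA : A ∈ maxEA 2 S)
    (hAW : ¬ A ≤ Subgroup.centralizer ((wOf K : Subgroup G) : Set G)) :
    Nat.card A = 2 * Nat.card (A ⊓ Subgroup.centralizer ((wOf K : Subgroup G) : Set G) : Subgroup G) := by
  obtain ⟨w₀, hw₀, hw₀1, hw₀J⟩ := h.exists_w0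
  have hAJ : A ≤ J := h.le_J_of_maxEA hA
  have hAX : A ≤ K ⊔ J := hAJ.trans h.J_le_X
  obtain ⟨a₀, ha₀, ha₀W⟩ := SetLike.not_le_iff_exists.mp hAW
  set B : Subgroup G := A ⊓ Subgroup.centralizer ((wOf K : Subgroup G) : Set G) with hB
  have hBA : B ≤ A := inf_le_left
  have hidx : (B.subgroupOf A).index = 2 := by
    rw [Subgroup.index_eq_two_iff_exists_notMem_and]
    refine ⟨⟨a₀, ha₀⟩, ?_, ?_⟩
    · intro hmem
      exact ha₀W (Subgroup.mem_inf.mp (Subgroup.mem_subgroupOf.mp hmem)).2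
    · intro b
      by_cases hb : (b : G) ∈ Subgroup.centralizer ((wOf K : Subgroup G) : Set G)
      · right
        exact Subgroup.mem_subgroupOf.mpr (Subgroup.mem_inf.mpr ⟨b.2, hb⟩)
      · left
        rw [Subgroup.mem_subgroupOf]
        refine Subgroup.mem_inf.mpr ⟨A.mul_mem b.2 ha₀, ?_⟩
        apply mem_centralizer_of_conj
        exact four_mul_centralizes h.hK.w4 h.hK.w2 hw₀ hw₀1
          (fun w hw => h.conj_wOf (hAX b.2) hw) (fun w hw => h.conj_wOf (hAX ha₀) hw)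
          (hw₀J _ (hAJ b.2)) (hw₀J _ (hAJ ha₀)) (exists_moved hb) (exists_moved ha₀W)
  have hrel : B.relIndex A = 2 := hidx
  have := card_mul_relIndex_of_le hBA
  rw [hrel] at this
  omega

/-- for a largest elementary abelian subgroup `A` of `S` not centralizing `W` and `x ∈ X`:
`W ⊔ (A ⊓ C(W))^x` is a largest elementary abelian subgroup of `S` -/
theorem JCtx.sup_conj_mem_maxEA {A : Subgroup G} (hA : A ∈ maxEA 2 S)
    (hAW : ¬ A ≤ Subgroup.centralizer ((wOf K : Subgroup G) : Set G)) {x : G} (hx : x ∈ K ⊔ J) :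
    wOf K ⊔ (A ⊓ Subgroup.centralizer ((wOf K : Subgroup G) : Set G) : Subgroup G).map
      (MulAut.conj x).toMonoidHom ∈ maxEA 2 S := by
  have hAJ : A ≤ J := h.le_J_of_maxEA hA
  have hAX : A ≤ K ⊔ J := hAJ.trans h.J_le_X
  obtain ⟨hAS, hAe, hAmax⟩ := hA
  obtain ⟨hAc, hA2⟩ := isElementaryAbelian_iff_forall.mp hAe
  obtain ⟨a₀, ha₀, ha₀W⟩ := SetLike.not_le_iff_exists.mp hAW
  obtain ⟨w₁, hw₁, hw₁a⟩ := exists_moved ha₀W
  set B : Subgroup G := A ⊓ Subgroup.centralizer ((wOf K : Subgroup G) : Set G) with hB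
  have hBA : B ≤ A := inf_le_left
  have hBQ : B ≤ qOf K J := fun b hb =>
    Subgroup.mem_inf.mpr ⟨hAX (hBA hb), (Subgroup.mem_inf.mp hb).2⟩
  have hDQ : B.map (MulAut.conj x).toMonoidHom ≤ qOf K J := by
    rintro _ ⟨b, hb, rfl⟩
    show (MulAut.conj x) b ∈ qOf K J
    rw [MulAut.conj_apply]
    exact h.conj_qOf hx (hBQ hb)
  apply maxEA_sup (A := A) ⟨hAS, hAe, hAmax⟩
  · rw [card_map_conj]
    exact (h.card_inf_centralizer ⟨hAS, hAe, hAmax⟩ hAW).le
  · exact hDQ.trans h.qOf_le_S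
  · exact isElementaryAbelian_map_conj (isElementaryAbelian_of_le hAe hBA) x
  · exact h.wOf_le_S
  · exact h.hK.w2
  · exact hDQ.trans inf_le_right
  · refine ⟨x * w₁ * x⁻¹, h.conj_wOf hx hw₁, ?_⟩
    intro hmem
    rw [mem_map_conj_iff] at hmem
    have hw₁B : w₁ ∈ B := by
      have e : x⁻¹ * (x * w₁ * x⁻¹) * x = w₁ := by group
      rwa [e] at hmem
    apply hw₁a
    have := hAc a₀ ha₀ w₁ (hBA hw₁B)
    calc a₀ * w₁ * a₀⁻¹ = (w₁ * a₀) * a₀⁻¹ := by rw [this]
      _ = w₁ := by group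

/-- `W_K ≤ J` -/
theorem JCtx.wOf_le_J : wOf K ≤ J := by
  obtain ⟨A, hA, hAW⟩ := h.exists_maxEA_not_le
  have := h.sup_conj_mem_maxEA hA hAW (Subgroup.one_mem _)
  exact le_sup_left.trans (h.le_J_of_maxEA this)

end

end Cfsg.Agent.Lib.Helper6.JC
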