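import Mathlib
import Cfsg.Agent.Lib.Helper6.JC.JC6

/-! `[Ω₁(Z(J)), X] ≤ W_K` and `Ω₁(Z(J))` centralizes `Q = X ⊓ C(W_K)`. -/

set_option autoImplicit false

namespace Cfsg.Agent.Lib.Helper6.JC

open Cfsg Cfsg.Agent.Lib.Helper9 Cfsg.Agent.Lib.Helper6
open scoped commutatorElement Pointwise

variable {G : Type*} [Group G]

theorem mem_of_mem_omegaCenterOf {J : Subgroup G} {z : G} (hz : z ∈ omegaCenterOf J) : z ∈ J :=
  (omegaCenterOf_le J hz).1

theorem comm_of_mem_omegaCenterOf {J : Subgroup G} {z : G} (hz : z ∈ omegaCenterOf J) {j : G}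
    (hj : j ∈ J) : j * z = z * j :=
  (Subgroup.mem_centralizer_iff.mp (omegaCenterOf_le J hz).2) j hj

/-- a conjugate of a largest elementary abelian subgroup inside `S` is one -/
theorem maxEA_map_conj_of_le [Finite G] {S A : Subgroup G} (hA : A ∈ maxEA 2 S) (x : G)
    (hle : A.map (MulAut.conj x).toMonoidHom ≤ S) :
    A.map (MulAut.conj x).toMonoidHom ∈ maxEA 2 S :=
  maxEA_of_card_ge hA hle (isElementaryAbelian_map_conj hA.2.1 x) (by rw [card_map_conj])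

section

variable [Finite G] {K J S : Subgroup G} (h : JCtx K J S)
include h

/-- for `z ∈ Ω₁(Z(J))`, `A` a largest elementary abelian subgroup of `S`, `x ∈ X`, `a ∈ A`:
`[x a x⁻¹, z] ∈ W` -/
theorem JCtx.comm_conj_mem_wOf {z : G} (hz : z ∈ omegaCenterOf J) {A : Subgroup G}
    (hA : A ∈ maxEA 2 S) {x : G} (hx : x ∈ K ⊔ J) {a : G} (ha : a ∈ A) :
    (x * a * x⁻¹) * z * (x * a * x⁻¹)⁻¹ * z⁻¹ ∈ wOf K := by
  have hAJ : A ≤ J := h.le_J_of_maxEA hA
  have hAX : A ≤ K ⊔ J := hAJ.trans h.J_le_X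
  have hzJ : z ∈ J := mem_of_mem_omegaCenterOf hz
  by_cases hAW : A ≤ Subgroup.centralizer ((wOf K : Subgroup G) : Set G)
  · -- `A ≤ Q`, so `A^x ≤ Q ≤ S`
    have hAQ : A ≤ qOf K J := fun b hb => Subgroup.mem_inf.mpr ⟨hAX hb, hAW hb⟩
    have hDS : A.map (MulAut.conj x).toMonoidHom ≤ S := by
      rintro _ ⟨b, hb, rfl⟩
      show (MulAut.conj x) b ∈ S
      rw [MulAut.conj_apply]
      exact h.qOf_le_S (h.conj_qOf hx (hAQ hb))
    have hD := maxEA_map_conj_of_le hA x hDS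
    have hyJ : x * a * x⁻¹ ∈ J := h.le_J_of_maxEA hD (conj_mem_map_conj A x ha)
    have hc := comm_of_mem_omegaCenterOf hz hyJ
    have : (x * a * x⁻¹) * z * (x * a * x⁻¹)⁻¹ * z⁻¹ = 1 := by
      rw [hc]; group
    rw [this]; exact Subgroup.one_mem _
  · have hC := h.sup_conj_mem_maxEA hA hAW hx
    set B : Subgroup G := A ⊓ Subgroup.centralizer ((wOf K : Subgroup G) : Set G) with hB
    set D : Subgroup G := B.map (MulAut.conj x).toMonoidHom with hD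
    have hCJ : wOf K ⊔ D ≤ J := h.le_J_of_maxEA hC
    have hzC : z ∈ wOf K ⊔ D := by
      apply maxEA_absorb hC (h.hJS hzJ) (mul_self_of_mem_omegaCenterOf hz)
      intro c hc
      exact (comm_of_mem_omegaCenterOf hz (hCJ hc)).symm
    have hDW : D ≤ Subgroup.centralizer ((wOf K : Subgroup G) : Set G) := by
      rintro _ ⟨b, hb, rfl⟩
      show (MulAut.conj x) b ∈ _
      rw [MulAut.conj_apply]
      exact h.conj_centralizer hx (Subgroup.mem_inf.mp hb).2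
    have hWN : wOf K ≤ Subgroup.normalizer (D : Set G) := by
      intro w hw
      apply mem_normalizer_of_forall_conj_mem
      intro d hd
      have := (Subgroup.mem_centralizer_iff.mp (hDW hd)) w hw
      have e : w * d * w⁻¹ = d := by
        calc w * d * w⁻¹ = (d * w) * w⁻¹ := by rw [this]
          _ = d := by group
      rw [e]; exact hd
    have hset := Subgroup.coe_mul_of_left_le_normalizer_right (wOf K) D hWN
    have hzC' : z ∈ ((wOf K ⊔ D : Subgroup G) : Set G) := hzC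
    rw [hset] at hzC'
    obtain ⟨w, hw, d, hd, rfl⟩ := hzC'
    have hw : w ∈ wOf K := hw
    have hd : d ∈ D := hd
    have hb : x⁻¹ * d * x ∈ B := (mem_map_conj_iff B x d).mp hd
    have hbA : x⁻¹ * d * x ∈ A := (Subgroup.mem_inf.mp hb).1
    obtain ⟨hAc, _⟩ := isElementaryAbelian_iff_forall.mp hA.2.1
    have hab := hAc a ha _ hbA
    have hyd : (x * a * x⁻¹) * d * (x * a * x⁻¹)⁻¹ = d := by
      calc (x * a * x⁻¹) * d * (x * a * x⁻¹)⁻¹ = x * (a * (x⁻¹ * d * x)) * a⁻¹ * x⁻¹ := by group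
        _ = x * ((x⁻¹ * d * x) * a) * a⁻¹ * x⁻¹ := by rw [hab]
        _ = d := by group
    have hyX : x * a * x⁻¹ ∈ K ⊔ J :=
      Subgroup.mul_mem _ (Subgroup.mul_mem _ hx (hAX ha)) (Subgroup.inv_mem _ hx)
    have hyw : (x * a * x⁻¹) * w * (x * a * x⁻¹)⁻¹ ∈ wOf K := h.conj_wOf hyX hw
    have e : (x * a * x⁻¹) * (w * d) * (x * a * x⁻¹)⁻¹ * (w * d)⁻¹ =
        ((x * a * x⁻¹) * w * (x * a * x⁻¹)⁻¹) * ((x * a * x⁻¹) * d * (x * a * x⁻¹)⁻¹) * d⁻¹ * w⁻¹ := by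
      group
    rw [e, hyd]
    have e2 : (x * a * x⁻¹) * w * (x * a * x⁻¹)⁻¹ * d * d⁻¹ * w⁻¹ =
        ((x * a * x⁻¹) * w * (x * a * x⁻¹)⁻¹) * w⁻¹ := by group
    rw [e2]
    exact Subgroup.mul_mem _ hyw (Subgroup.inv_mem _ hw)

/-- `[y, z] ∈ W` for all `y ∈ X`, `z ∈ Ω₁(Z(J))` -/
theorem JCtx.comm_mem_wOf {z : G} (hz : z ∈ omegaCenterOf J) {y : G} (hy : y ∈ K ⊔ J) :
    y * z * y⁻¹ * z⁻¹ ∈ wOf K := by
  let H : Subgroup G :=
    { carrier := {y | y ∈ K ⊔ J ∧ y * z * y⁻¹ * z⁻¹ ∈ wOf K}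
      mul_mem' := by
        rintro a b ⟨haX, ha⟩ ⟨hbX, hb⟩
        refine ⟨Subgroup.mul_mem _ haX hbX, ?_⟩
        have e : (a * b) * z * (a * b)⁻¹ * z⁻¹ =
            (a * (b * z * b⁻¹ * z⁻¹) * a⁻¹) * (a * z * a⁻¹ * z⁻¹) := by group
        rw [e]
        exact Subgroup.mul_mem _ (h.conj_wOf haX hb) ha
      one_mem' := ⟨Subgroup.one_mem _, by simp⟩
      inv_mem' := by
        rintro a ⟨haX, ha⟩
        refine ⟨Subgroup.inv_mem _ haX, ?_⟩
        have e : a⁻¹ * z * a⁻¹⁻¹ * z⁻¹ = a⁻¹ * (a * z * a⁻¹ * z⁻¹)⁻¹ * a⁻¹⁻¹ := by group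
        rw [e]
        exact h.conj_wOf (Subgroup.inv_mem _ haX) (Subgroup.inv_mem _ ha) }
  have hmemH : ∀ y, y ∈ H ↔ (y ∈ K ⊔ J ∧ y * z * y⁻¹ * z⁻¹ ∈ wOf K) := fun y => Iff.rfl
  have hJH : ∀ x ∈ K ⊔ J, J ≤ H.comap (MulAut.conj x).toMonoidHom := by
    intro x hx
    refine h.thompson_eq.le.trans ?_
    apply sSup_le
    intro A hA a ha
    rw [Subgroup.mem_comap]
    show (MulAut.conj x) a ∈ H
    rw [MulAut.conj_apply, hmemH]
    have hAX : A ≤ K ⊔ J := (h.le_J_of_maxEA hA).trans h.J_le_X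
    exact ⟨Subgroup.mul_mem _ (Subgroup.mul_mem _ hx (hAX ha)) (Subgroup.inv_mem _ hx),
      h.comm_conj_mem_wOf hz hA hx ha⟩
  have hconj : ∀ x ∈ K ⊔ J, ∀ j ∈ J, x * j * x⁻¹ ∈ H := by
    intro x hx j hj
    have := hJH x hx hj
    rw [Subgroup.mem_comap] at this
    have e : (MulAut.conj x).toMonoidHom j = x * j * x⁻¹ := by
      show (MulAut.conj x) j = _
      rw [MulAut.conj_apply]
    rwa [e] at this
  have hJle : J ≤ H := by
    intro j hj
    have := hconj 1 (Subgroup.one_mem _) j hj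
    simpa using this
  have hKle : K ≤ H := by
    have : ⁅K, J⁆ ≤ H := by
      rw [Subgroup.commutator_le]
      intro k hk j hj
      have e : ⁅k, j⁆ = (k * j * k⁻¹) * j⁻¹ := by simp only [commutatorElement_def]
      rw [e]
      exact H.mul_mem (hconj k ((le_sup_left : K ≤ K ⊔ J) hk) j hj) (H.inv_mem (hJle hj))
    rwa [h.hKJ] at this
  have hXle : K ⊔ J ≤ H := sup_le hKle hJle
  exact ((hmemH y).mp (hXle hy)).2

end

end Cfsg.Agent.Lib.Helper6.JC
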