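import Mathlib
import Cfsg.Agent.Lib.Helper6.JC.JC7

/-! `Ω₁(Z(J))` centralizes `Q = X ⊓ C(W_K)`; the splitting `Ω₁(Z(J)) = (Ω₁(Z(J)) ∩ Z(X)) (Ω₁(Z(J)) ∩ W_K)`. -/

set_option autoImplicit false

namespace Cfsg.Agent.Lib.Helper6.JC

open Cfsg Cfsg.Agent.Lib.Helper9 Cfsg.Agent.Lib.Helper6
open scoped commutatorElement Pointwise

variable {G : Type*} [Group G]

section

variable [Finite G] {K J S : Subgroup G} (h : JCtx K J S)
include h

/-- for `q ∈ Q`, `z ∈ Ω₁(Z(J))`: `q⁻¹ z q z⁻¹` is `1` or the involution `w₀` of `W` fixed by `J` -/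
theorem JCtx.comm_qOf_cases {z : G} (hz : z ∈ omegaCenterOf J) {w₀ : G} (hw₀ : w₀ ∈ wOf K)
    (hw₀1 : w₀ ≠ 1) (hw₀J : ∀ j ∈ J, j * w₀ * j⁻¹ = w₀) {q : G} (hq : q ∈ qOf K J) :
    q⁻¹ * z * q * z⁻¹ = 1 ∨ q⁻¹ * z * q * z⁻¹ = w₀ := by
  obtain ⟨A, hA, hAW⟩ := h.exists_maxEA_not_le
  obtain ⟨a, ha, haW⟩ := SetLike.not_le_iff_exists.mp hAW
  have hAJ : A ≤ J := h.le_J_of_maxEA hA
  have hAX : A ≤ K ⊔ J := hAJ.trans h.J_le_X
  have hqX : q ∈ K ⊔ J := (Subgroup.mem_inf.mp hq).1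
  have hqS : q ∈ S := h.qOf_le_S hq
  set w' := q⁻¹ * z * q * z⁻¹ with hw'def
  have hw' : w' ∈ wOf K := by
    have := h.comm_mem_wOf hz (Subgroup.inv_mem _ hqX)
    rwa [inv_inv] at this
  -- `A^q` is a largest elementary abelian subgroup of `S`
  have hDS : A.map (MulAut.conj q).toMonoidHom ≤ S := by
    rintro _ ⟨b, hb, rfl⟩
    show (MulAut.conj q) b ∈ S
    rw [MulAut.conj_apply]
    exact S.mul_mem (S.mul_mem hqS (hA.1 hb)) (S.inv_mem hqS)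
  have hD := maxEA_map_conj_of_le hA q hDS
  have hyJ : q * a * q⁻¹ ∈ J := h.le_J_of_maxEA hD (conj_mem_map_conj A q ha)
  have hc1 := comm_of_mem_omegaCenterOf hz hyJ
  have hc2 := comm_of_mem_omegaCenterOf hz (hAJ ha)
  -- `a` commutes with `q⁻¹ z q`
  have hc3 : a * (q⁻¹ * z * q) = (q⁻¹ * z * q) * a := by
    calc a * (q⁻¹ * z * q) = q⁻¹ * ((q * a * q⁻¹) * z) * q := by group
      _ = q⁻¹ * (z * (q * a * q⁻¹)) * q := by rw [hc1]
      _ = (q⁻¹ * z * q) * a := by group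
  have hc2' : a * z⁻¹ = z⁻¹ * a := by
    calc a * z⁻¹ = z⁻¹ * (z * a) * z⁻¹ := by group
      _ = z⁻¹ * (a * z) * z⁻¹ := by rw [hc2]
      _ = z⁻¹ * a := by group
  have haw' : a * w' * a⁻¹ = w' := by
    calc a * w' * a⁻¹ = (a * (q⁻¹ * z * q)) * z⁻¹ * a⁻¹ := by rw [hw'def]; group
      _ = (q⁻¹ * z * q) * (a * z⁻¹) * a⁻¹ := by rw [hc3]; group
      _ = w' := by rw [hc2', hw'def]; group
  by_contra hcon
  push Not at hcon
  obtain ⟨hw'1, hw'0⟩ := hcon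
  apply haW
  apply mem_centralizer_of_conj
  intro u hu
  by_cases hu1 : u = 1
  · subst hu1; group
  by_cases hu0 : u = w₀
  · subst hu0; exact hw₀J a (hAJ ha)
  rcases four_coset h.hK.w4 h.hK.w2 hw₀ hw₀1 hw' hu hw'1 hw'0 hu1 hu0 with e | e
  · rw [e]; exact haw'
  · rw [e]
    have e2 : a * (w' * w₀) * a⁻¹ = (a * w' * a⁻¹) * (a * w₀ * a⁻¹) := by group
    rw [e2, haw', hw₀J a (hAJ ha)]

/-- `Ω₁(Z(J))` centralizes `Q` -/
theorem JCtx.comm_qOf {z : G} (hz : z ∈ omegaCenterOf J) {q : G} (hq : q ∈ qOf K J) :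
    q * z = z * q := by
  obtain ⟨w₀, hw₀, hw₀1, hw₀J⟩ := h.exists_w0
  obtain ⟨g, hg, hodd, hgQ⟩ := h.hK.exists_odd
  have hgX : g ∈ K ⊔ J := (le_sup_left : K ≤ K ⊔ J) hg
  have hWc := comm_of_mul_self h.hK.w2
  have key : q⁻¹ * z * q * z⁻¹ = 1 := by
    rcases h.comm_qOf_cases hz hw₀ hw₀1 hw₀J hq with e | e
    · exact e
    · exfalso
      -- conjugate by `g`
      have hq' : g⁻¹ * q * g ∈ qOf K J := by
        have := h.conj_qOf (Subgroup.inv_mem _ hgX) hq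
        rwa [inv_inv] at this
      set u := g * z * g⁻¹ * z⁻¹ with hu
      have huW : u ∈ wOf K := h.comm_mem_wOf hz hgX
      have hqu : q⁻¹ * u * q = u := by
        have := (Subgroup.mem_centralizer_iff.mp (Subgroup.mem_inf.mp hq).2) u huW
        calc q⁻¹ * u * q = q⁻¹ * (u * q) := by group
          _ = q⁻¹ * (q * u) := by rw [this]
          _ = u := by group
      have hident : (g⁻¹ * q * g)⁻¹ * z * (g⁻¹ * q * g) * z⁻¹ =
          g⁻¹ * (q⁻¹ * u * q) * (q⁻¹ * z * q * z⁻¹) * u⁻¹ * g := by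
        rw [hu]; group
      rw [hqu, e] at hident
      have huw : u * w₀ * u⁻¹ = w₀ := by
        have := hWc u huW w₀ hw₀
        calc u * w₀ * u⁻¹ = (w₀ * u) * u⁻¹ := by rw [this]
          _ = w₀ := by group
      have hident' : (g⁻¹ * q * g)⁻¹ * z * (g⁻¹ * q * g) * z⁻¹ = g⁻¹ * w₀ * g := by
        rw [hident]
        calc g⁻¹ * u * w₀ * u⁻¹ * g = g⁻¹ * (u * w₀ * u⁻¹) * g := by group
          _ = g⁻¹ * w₀ * g := by rw [huw]
      rcases h.comm_qOf_cases hz hw₀ hw₀1 hw₀J hq' with e' | e'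
      · rw [hident'] at e'
        apply hw₀1
        calc w₀ = g * (g⁻¹ * w₀ * g) * g⁻¹ := by group
          _ = 1 := by rw [e']; group
      · rw [hident'] at e'
        apply hw₀1
        apply h.hK.fixes_none hg hodd hgQ hw₀
        calc g * w₀ * g⁻¹ = g * (g⁻¹ * w₀ * g) * g⁻¹ := by rw [e']
          _ = w₀ := by group
  calc q * z = q * (q⁻¹ * z * q * z⁻¹) * z := by rw [key]; group
    _ = z * q := by group

end

end Cfsg.Agent.Lib.Helper6.JC
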