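import Mathlib
import Cfsg.Agent.Lib.Helper6.JC.JC8

/-! The splitting `Ω₁(Z(J)) = (Ω₁(Z(J)) ∩ Z(X)) (Ω₁(Z(J)) ∩ W_K)` and `|Ω₁(Z(J)) ∩ W_K| = 2`. -/

set_option autoImplicit false

namespace Cfsg.Agent.Lib.Helper6.JC

open Cfsg Cfsg.Agent.Lib.Helper9 Cfsg.Agent.Lib.Helper6
open scoped commutatorElement Pointwise

variable {G : Type*} [Group G]

section

variable [Finite G] {K J S : Subgroup G} (h : JCtx K J S)
include h

/-- `w ↦ g w g⁻¹ w⁻¹` is onto `W` for `g ∈ K` of odd order outside `O_2(K)` -/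
theorem JCtx.exists_comm_eq {g : G} (hg : g ∈ K) (hodd : Odd (orderOf g)) (hgQ : g ∉ pCoreOf 2 K)
    {u : G} (hu : u ∈ wOf K) : ∃ w ∈ wOf K, g * w * g⁻¹ * w⁻¹ = u := by
  have hgX : g ∈ K ⊔ J := (le_sup_left : K ≤ K ⊔ J) hg
  let φ : ↥(wOf K) → ↥(wOf K) := fun w =>
    ⟨g * w * g⁻¹ * (w : G)⁻¹, Subgroup.mul_mem _ (h.conj_wOf hgX w.2) (Subgroup.inv_mem _ w.2)⟩
  have hinj : Function.Injective φ := by
    intro w w' hww
    have e : g * (w : G) * g⁻¹ * (w : G)⁻¹ = g * (w' : G) * g⁻¹ * (w' : G)⁻¹ :=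
      congrArg Subtype.val hww
    have hv : (w' : G)⁻¹ * w ∈ wOf K := Subgroup.mul_mem _ (Subgroup.inv_mem _ w'.2) w.2
    have hfix : g * ((w' : G)⁻¹ * w) * g⁻¹ = (w' : G)⁻¹ * w := by
      calc g * ((w' : G)⁻¹ * w) * g⁻¹
          = (g * (w' : G) * g⁻¹)⁻¹ * ((g * (w : G) * g⁻¹ * (w : G)⁻¹) * w) := by group
        _ = (g * (w' : G) * g⁻¹)⁻¹ * ((g * (w' : G) * g⁻¹ * (w' : G)⁻¹) * w) := by rw [e]
        _ = (w' : G)⁻¹ * w := by group
    have h1 := h.hK.fixes_none hg hodd hgQ hv hfix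
    apply Subtype.ext
    calc (w : G) = (w' : G) * ((w' : G)⁻¹ * w) := by group
      _ = w' := by rw [h1, mul_one]
  have hsurj : Function.Surjective φ := Finite.injective_iff_surjective.mp hinj
  obtain ⟨w, hw⟩ := hsurj ⟨u, hu⟩
  exact ⟨w, w.2, congrArg Subtype.val hw⟩

/-- the splitting of an element of `Ω₁(Z(J))` -/
theorem JCtx.split {z : G} (hz : z ∈ omegaCenterOf J) :
    ∃ c w : G, c ∈ omegaCenterOf J ∧ c ∈ K ⊔ J ∧
      c ∈ Subgroup.centralizer ((K : Set G) ⊔ (J : Set G)) ∧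
      w ∈ omegaCenterOf J ∧ w ∈ wOf K ∧ z = c * w := by
  obtain ⟨g, hg, hodd, hgQ⟩ := h.hK.exists_odd
  have hgX : g ∈ K ⊔ J := (le_sup_left : K ≤ K ⊔ J) hg
  have hWc := comm_of_mul_self h.hK.w2
  have hzJ : z ∈ J := mem_of_mem_omegaCenterOf hz
  have hu : g * z * g⁻¹ * z⁻¹ ∈ wOf K := h.comm_mem_wOf hz hgX
  obtain ⟨w, hw, hwu⟩ := h.exists_comm_eq hg hodd hgQ hu
  have hwJ : w ∈ J := h.wOf_le_J hw
  have hzw : w * z = z * w := comm_of_mem_omegaCenterOf hz hwJ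
  have hww : w * w = 1 := h.hK.w2 w hw
  have hzz : z * z = 1 := mul_self_of_mem_omegaCenterOf hz
  set c := z * w⁻¹ with hc
  have hzc : z = c * w := by rw [hc]; group
  -- `g` centralizes `c`
  have hgc : g * c = c * g := by
    have hwu' : g * z * g⁻¹ * z⁻¹ = g * w * g⁻¹ * w⁻¹ := hwu.symm
    -- `u` commutes with `z` and `w`
    have huz : (g * w * g⁻¹ * w⁻¹) * z = z * (g * w * g⁻¹ * w⁻¹) := by
      rw [← hwu']
      exact h.comm_qOf hz (wOf_le_qOf K J hu)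
    have huw : (g * w * g⁻¹ * w⁻¹) * w⁻¹ = w⁻¹ * (g * w * g⁻¹ * w⁻¹) := by
      rw [← hwu']
      exact hWc _ hu _ (Subgroup.inv_mem _ hw)
    have e1 : g * z * g⁻¹ = (g * w * g⁻¹ * w⁻¹) * z := by
      rw [← hwu']; group
    have e2 : g * w⁻¹ * g⁻¹ = w⁻¹ * (g * w * g⁻¹ * w⁻¹)⁻¹ := by group
    have e3 : g * c * g⁻¹ = c := by
      calc g * c * g⁻¹ = (g * z * g⁻¹) * (g * w⁻¹ * g⁻¹) := by rw [hc]; group
        _ = ((g * w * g⁻¹ * w⁻¹) * z) * (w⁻¹ * (g * w * g⁻¹ * w⁻¹)⁻¹) := by rw [e1, e2]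
        _ = (z * (g * w * g⁻¹ * w⁻¹)) * (w⁻¹ * (g * w * g⁻¹ * w⁻¹)⁻¹) := by rw [huz]
        _ = z * ((g * w * g⁻¹ * w⁻¹) * w⁻¹) * (g * w * g⁻¹ * w⁻¹)⁻¹ := by group
        _ = z * (w⁻¹ * (g * w * g⁻¹ * w⁻¹)) * (g * w * g⁻¹ * w⁻¹)⁻¹ := by rw [huw]
        _ = c := by rw [hc]; group
    calc g * c = (g * c * g⁻¹) * g := by group
      _ = c * g := by rw [e3]
  -- `K` centralizes `c`
  have hKc : K ≤ Subgroup.centralizer ({c} : Set G) := by
    rw [← h.hK.sup_zpowers hg hgQ]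
    apply sup_le
    · intro k hk
      rw [Subgroup.mem_centralizer_iff]
      intro y hy
      rw [Set.mem_singleton_iff] at hy
      subst hy
      have h1 : k * z = z * k := h.comm_qOf hz (pCoreOf_le_qOf K J hk)
      have h2 : k * w = w * k := pCoreOf_comm_wOf hk hw
      have h2' : k * w⁻¹ = w⁻¹ * k := by
        calc k * w⁻¹ = w⁻¹ * (w * k) * w⁻¹ := by group
          _ = w⁻¹ * (k * w) * w⁻¹ := by rw [h2]
          _ = w⁻¹ * k := by group
      calc z * w⁻¹ * k = z * (w⁻¹ * k) := by group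
        _ = z * (k * w⁻¹) := by rw [h2']
        _ = (z * k) * w⁻¹ := by group
        _ = (k * z) * w⁻¹ := by rw [h1]
        _ = k * (z * w⁻¹) := by group
    · rw [Subgroup.zpowers_le, Subgroup.mem_centralizer_iff]
      intro y hy
      rw [Set.mem_singleton_iff] at hy
      subst hy
      exact hgc.symm
  have hKc' : ∀ k ∈ K, k * c = c * k := by
    intro k hk
    exact ((Subgroup.mem_centralizer_iff.mp (hKc hk)) c rfl).symm
  -- `J` centralizes `c` and `w`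
  have hJcw : ∀ j ∈ J, j * c * j⁻¹ = c ∧ j * w * j⁻¹ = w := by
    intro j hj
    have hjX : j ∈ K ⊔ J := h.J_le_X hj
    have hjz : j * z * j⁻¹ = z := by
      have := comm_of_mem_omegaCenterOf hz hj
      calc j * z * j⁻¹ = (z * j) * j⁻¹ := by rw [this]
        _ = z := by group
    have hw' : j * w * j⁻¹ ∈ wOf K := h.conj_wOf hjX hw
    -- `g` commutes with `j c j⁻¹`
    have hk' : j⁻¹ * g * j ∈ K := by
      have := conj_mem_of_mem_normalizer (h.J_le_normalizer (Subgroup.inv_mem _ hj)) hg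
      rwa [inv_inv] at this
    have hgc' : g * (j * c * j⁻¹) * g⁻¹ = j * c * j⁻¹ := by
      have := hKc' _ hk'
      calc g * (j * c * j⁻¹) * g⁻¹ = j * ((j⁻¹ * g * j) * c) * j⁻¹ * g⁻¹ := by group
        _ = j * (c * (j⁻¹ * g * j)) * j⁻¹ * g⁻¹ := by rw [this]
        _ = j * c * j⁻¹ := by group
    have hgc'' : g * c * g⁻¹ = c := by
      calc g * c * g⁻¹ = (c * g) * g⁻¹ := by rw [hgc]
        _ = c := by group
    -- `v = (j w j⁻¹) w⁻¹ = (j c j⁻¹)⁻¹ c`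
    have hv : (j * w * j⁻¹) * w⁻¹ ∈ wOf K := Subgroup.mul_mem _ hw' (Subgroup.inv_mem _ hw)
    have hveq : (j * w * j⁻¹) * w⁻¹ = (j * c * j⁻¹)⁻¹ * c := by
      have e : (j * c * j⁻¹) * (j * w * j⁻¹) = c * w := by
        calc (j * c * j⁻¹) * (j * w * j⁻¹) = j * (c * w) * j⁻¹ := by group
          _ = j * z * j⁻¹ := by rw [← hzc]
          _ = z := hjz
          _ = c * w := hzc
      calc (j * w * j⁻¹) * w⁻¹ = (j * c * j⁻¹)⁻¹ * ((j * c * j⁻¹) * (j * w * j⁻¹)) * w⁻¹ := by group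
        _ = (j * c * j⁻¹)⁻¹ * (c * w) * w⁻¹ := by rw [e]
        _ = (j * c * j⁻¹)⁻¹ * c := by group
    have hvfix : g * ((j * w * j⁻¹) * w⁻¹) * g⁻¹ = (j * w * j⁻¹) * w⁻¹ := by
      rw [hveq]
      calc g * ((j * c * j⁻¹)⁻¹ * c) * g⁻¹ = (g * (j * c * j⁻¹) * g⁻¹)⁻¹ * (g * c * g⁻¹) := by group
        _ = (j * c * j⁻¹)⁻¹ * c := by rw [hgc', hgc'']
    have hv1 := h.hK.fixes_none hg hodd hgQ hv hvfix
    have hw1 : j * w * j⁻¹ = w := by
      calc j * w * j⁻¹ = ((j * w * j⁻¹) * w⁻¹) * w := by group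
        _ = w := by rw [hv1, one_mul]
    have hc1 : j * c * j⁻¹ = c := by
      have : (j * c * j⁻¹)⁻¹ * c = 1 := by rw [← hveq]; exact hv1
      calc j * c * j⁻¹ = (j * c * j⁻¹) * ((j * c * j⁻¹)⁻¹ * c) := by rw [this, mul_one]
        _ = c := by group
    exact ⟨hc1, hw1⟩
  have hcJ : c ∈ J := by
    rw [hc]; exact J.mul_mem hzJ (J.inv_mem hwJ)
  have hcX : c ∈ K ⊔ J := h.J_le_X hcJ
  have hcc : c * c = 1 := by
    have hwz' : w⁻¹ * z = z * w⁻¹ := by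
      calc w⁻¹ * z = w⁻¹ * (z * w) * w⁻¹ := by group
        _ = w⁻¹ * (w * z) * w⁻¹ := by rw [hzw]
        _ = z * w⁻¹ := by group
    have hwinv : w⁻¹ * w⁻¹ = 1 := by
      rw [← mul_inv_rev, hww, inv_one]
    calc c * c = z * (w⁻¹ * z) * w⁻¹ := by rw [hc]; group
      _ = z * (z * w⁻¹) * w⁻¹ := by rw [hwz']
      _ = (z * z) * (w⁻¹ * w⁻¹) := by group
      _ = 1 := by rw [hzz, hwinv, one_mul]
  have hcCJ : c ∈ Subgroup.centralizer (J : Set G) := by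
    apply Subgroup.mem_centralizer_iff.mpr
    intro j hj
    have := (hJcw j hj).1
    calc j * c = (j * c * j⁻¹) * j := by group
      _ = c * j := by rw [this]
  have hwCJ : w ∈ Subgroup.centralizer (J : Set G) := by
    apply Subgroup.mem_centralizer_iff.mpr
    intro j hj
    have := (hJcw j hj).2
    calc j * w = (j * w * j⁻¹) * j := by group
      _ = w * j := by rw [this]
  have hJc : J ≤ Subgroup.centralizer ({c} : Set G) := by
    intro j hj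
    rw [Subgroup.mem_centralizer_iff]
    intro y hy
    rw [Set.mem_singleton_iff] at hy
    subst hy
    exact ((Subgroup.mem_centralizer_iff.mp hcCJ) j hj).symm
  have hXc : K ⊔ J ≤ Subgroup.centralizer ({c} : Set G) := sup_le hKc hJc
  refine ⟨c, w, mem_omegaCenterOf hcJ hcCJ hcc, hcX, ?_, mem_omegaCenterOf hwJ hwCJ hww, hw, hzc⟩
  apply Subgroup.mem_centralizer_iff.mpr
  intro x hx
  have hx' : x ∈ K ⊔ J := by
    rcases hx with hx | hx
    · exact (le_sup_left : K ≤ K ⊔ J) hx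
    · exact (le_sup_right : J ≤ K ⊔ J) hx
  exact ((Subgroup.mem_centralizer_iff.mp (hXc hx')) c rfl).symm

/-- `|Ω₁(Z(J)) ∩ W_K| = 2` -/
theorem JCtx.card_inf : Nat.card (omegaCenterOf J ⊓ wOf K : Subgroup G) = 2 := by
  obtain ⟨w₀, hw₀, hw₀1, hw₀J⟩ := h.exists_w0
  apply card_eq_two_of_lt_of_ne_bot h.hK.w4 inf_le_right
  · intro hbot
    apply hw₀1
    have hw₀Z : w₀ ∈ omegaCenterOf J := by
      apply mem_omegaCenterOf (h.wOf_le_J hw₀) _ (h.hK.w2 w₀ hw₀)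
      apply Subgroup.mem_centralizer_iff.mpr
      intro j hj
      have := hw₀J j hj
      calc j * w₀ = (j * w₀ * j⁻¹) * j := by group
        _ = w₀ * j := by rw [this]
    have : w₀ ∈ (omegaCenterOf J ⊓ wOf K : Subgroup G) := Subgroup.mem_inf.mpr ⟨hw₀Z, hw₀⟩
    rw [hbot] at this
    exact Subgroup.mem_bot.mp this
  · intro heq
    apply h.not_centralizes
    intro j hj
    rw [Subgroup.mem_centralizer_iff]
    intro w hw
    have hwZ : w ∈ omegaCenterOf J := by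
      have : w ∈ (omegaCenterOf J ⊓ wOf K : Subgroup G) := by rw [heq]; exact hw
      exact (Subgroup.mem_inf.mp this).1
    exact (comm_of_mem_omegaCenterOf hwZ hj).symm

/-- the final statement -/
theorem JCtx.final :
    Nat.card (omegaCenterOf J ⊓ wOf K : Subgroup G) = 2 ∧
      (omegaCenterOf J ⊓ ((K ⊔ J) ⊓ Subgroup.centralizer ((K : Set G) ⊔ (J : Set G)))) ⊔
        (omegaCenterOf J ⊓ wOf K) = omegaCenterOf J := by
  refine ⟨h.card_inf, le_antisymm (sup_le inf_le_left inf_le_left) ?_⟩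
  intro z hz
  obtain ⟨c, w, hcZ, hcX, hcC, hwZ, hwW, rfl⟩ := h.split hz
  apply Subgroup.mul_mem
  · exact (le_sup_left : _ ≤ _ ⊔ (omegaCenterOf J ⊓ wOf K)) (Subgroup.mem_inf.mpr
      ⟨hcZ, Subgroup.mem_inf.mpr ⟨hcX, hcC⟩⟩)
  · exact (le_sup_right : (omegaCenterOf J ⊓ wOf K) ≤ _) (Subgroup.mem_inf.mpr ⟨hwZ, hwW⟩)

end

end Cfsg.Agent.Lib.Helper6.JC
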